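import Cfsg.Agent.Lib.CompLength.Primitive

/-! The bound for affine groups, by counting. -/

set_option autoImplicit false

namespace Cfsg.Agent.CompLength

open MulAction

variable {G : Type} [Group G] [Finite G] {Ω : Type} [Finite Ω] [MulAction G Ω] [FaithfulSMul G Ω]

set_option linter.unusedSectionVars false

/-- A transitive normal elementary abelian group: `|G| ≤ n (n-1)⋯(n-k)`. -/
theorem affine_card_le (N : Subgroup G) [N.Normal] [IsPretransitive N Ω] {T : Type} [Group T]
    [IsSimpleGroup T] [IsMulCommutative T] {k : ℕ} (e : N ≃* (Fin k → T)) (a : Ω) :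
    Nat.card Ω = Nat.card T ^ k ∧ (0 < k → (Nat.card T).Prime ∧
      Nat.card G ≤ Nat.card Ω * (Nat.card Ω - 1).descFactorial k) := by
  classical
  have hcomm : ∀ u ∈ N, ∀ v ∈ N, u * v = v * u := by
    intro u hu v hv
    obtain ⟨x, rfl⟩ := exists_emb e hu
    obtain ⟨y, rfl⟩ := exists_emb e hv
    rw [← map_mul, ← map_mul]
    exact congrArg _ (funext fun i => mul_comm' (x i) (y i))
  have hfree : ∀ u ∈ N, u • a = a → u = 1 := fun u hu hua =>
    FaithfulSMul.eq_of_smul_eq_smul (α := Ω) fun y => by
      obtain ⟨⟨v, hv⟩, rfl⟩ := exists_smul_eq N a y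
      show u • v • a = (1 : G) • v • a
      rw [one_smul, ← mul_smul, hcomm u hu v hv, mul_smul, hua]
  have hn : Nat.card Ω = Nat.card T ^ k := by
    have h1 : stabilizer N a = ⊥ := (Subgroup.eq_bot_iff_forall _).2 fun u hu =>
      Subtype.ext (hfree u u.2 hu)
    rw [← index_stabilizer_of_transitive N a, h1, Subgroup.index_bot, Nat.card_congr e.toEquiv,
      Nat.card_fun, Nat.card_fin]
  refine ⟨hn, fun hk => ?_⟩
  have : Finite T := Finite.of_injective (fun t => e.symm (Pi.mulSingle ⟨0, hk⟩ t))
    (e.symm.injective.comp (Pi.mulSingle_injective (M := fun _ : Fin k => T) _))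
  let : CommGroup T := { (inferInstance : Group T) with mul_comm := mul_comm' }
  have hp : (Nat.card T).Prime := IsSimpleGroup.prime_card
  refine ⟨hp, ?_⟩
  have := Fact.mk hp
  obtain ⟨t₀, ht₀⟩ := exists_ne (1 : T)
  have htop := zpowers_eq_top_of_prime_card rfl ht₀
  let gen : Fin k → (Fin k → T) := fun i => Pi.mulSingle i t₀
  have hne : ∀ (h : G) (i : Fin k), rho e h (gen i) ≠ 1 := fun h i hc => by
    have := congrFun ((rho e h).injective (hc.trans (map_one (rho e h)).symm)) i
    simp [gen] at this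
    exact ht₀ this
  have hginj : Function.Injective gen := fun i j hij => mulSingle_index ht₀ hij
  let f : stabilizer G a → (Fin k ↪ {x : Fin k → T // x ≠ 1}) := fun h =>
    ⟨fun i => ⟨rho e h (gen i), hne h i⟩, fun i j hij =>
      hginj ((rho e (h : G)).injective (congrArg Subtype.val hij))⟩
  have hf : Function.Injective f := by
    intro h h' hh
    have hall : ∀ x, rho e h x = rho e h' x := fun x => by
      refine Subgroup.pi_mem_of_mulSingle_mem
        (H := (rho e (h : G)).toMonoidHom.eqLocus (rho e (h' : G)).toMonoidHom) x fun i => ?_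
      obtain ⟨z, hz⟩ := Subgroup.mem_zpowers_iff.1 (htop ▸ Subgroup.mem_top (x i) : x i ∈ Subgroup.zpowers t₀)
      show rho e h (Pi.mulSingle i (x i)) = rho e h' (Pi.mulSingle i (x i))
      have h1 : Pi.mulSingle (M := fun _ => T) i (x i) = gen i ^ z := by
        rw [← hz]; exact Pi.mulSingle_zpow (f := fun _ : Fin k => T) i t₀ z
      have h2 : rho e h (gen i) = rho e h' (gen i) :=
        congrArg (fun φ : Fin k ↪ _ => (φ i).1) hh
      rw [h1, map_zpow, map_zpow, h2]
    refine Subtype.ext (FaithfulSMul.eq_of_smul_eq_smul (α := Ω) fun y => ?_)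
    obtain ⟨⟨v, hv⟩, rfl⟩ := exists_smul_eq N a y
    obtain ⟨x, rfl⟩ := exists_emb e hv
    show (h : G) • emb e x • a = (h' : G) • emb e x • a
    have key : ∀ g : stabilizer G a, (g : G) • emb e x • a = emb e (rho e g x) • a := fun g => by
      rw [emb_rho, mul_smul, mul_smul, inv_smul_eq_iff.2 (mem_stabilizer_iff.1 g.2).symm]
    rw [key, key, hall]
  have : IsPretransitive G Ω := ⟨fun x y => by
    obtain ⟨u, hu⟩ := exists_smul_eq N x y
    exact ⟨u, hu⟩⟩
  rw [← (stabilizer G a).card_mul_index, index_stabilizer_of_transitive, mul_comm]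
  refine Nat.mul_le_mul_left _ ((Nat.card_le_card_of_injective f hf).trans (le_of_eq ?_))
  have := Fintype.ofFinite T
  rw [Nat.card_eq_fintype_card, Fintype.card_embedding_eq, Fintype.card_fin,
    Fintype.card_subtype_compl, Fintype.card_subtype_eq, Fintype.card_fun, Fintype.card_fin,
    ← Nat.card_eq_fintype_card, ← hn]

open ArithmeticFunction in
theorem length_le_nine (h8 : Nat.card Ω = 8) (hG : Nat.card G ≤ 1680) {l : ℕ}
    (hl : Ser (⊤ : Subgroup G) l) : l ≤ 9 := by
  have h1 := hl.le_cardFactors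
  rw [Subgroup.card_top] at h1
  let φ := toPermHom G Ω
  have hdvd : Nat.card G ∣ Nat.card (Equiv.Perm Ω) :=
    Subgroup.card_dvd_of_injective φ (MulAction.toPerm_injective)
  rw [Nat.card_perm, h8, show Nat.factorial 8 = 40320 from rfl] at hdvd
  obtain ⟨c, hc⟩ := hdvd
  have hc0 : c ≠ 0 := by rintro rfl; simp at hc
  have hG0 : Nat.card G ≠ 0 := Nat.card_pos.ne'
  have h11 : cardFactors 40320 = 11 := by
    rw [show (40320 : ℕ) = 2 ^ 7 * 3 ^ 2 * 5 ^ 1 * 7 ^ 1 by norm_num]
    rw [cardFactors_mul (by norm_num) (by norm_num), cardFactors_mul (by norm_num) (by norm_num),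
      cardFactors_mul (by norm_num) (by norm_num), cardFactors_apply_prime_pow (by norm_num),
      cardFactors_apply_prime_pow (by norm_num), cardFactors_apply_prime_pow (by norm_num),
      cardFactors_apply_prime_pow (by norm_num)]
  rw [hc, cardFactors_mul hG0 hc0] at h11
  have hc24 : 24 ≤ c := by
    by_contra hlt
    have : 40320 ≤ 1680 * 23 := hc ▸ Nat.mul_le_mul hG (by omega)
    omega
  have hc2 : 2 ≤ cardFactors c := by
    by_contra hlt
    interval_cases hcf : cardFactors c
    · rw [cardFactors_apply, List.length_eq_zero_iff, Nat.primeFactorsList_eq_nil] at hcf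
      omega
    · have hp := cardFactors_eq_one_iff_prime.1 hcf
      have h7 : c ∣ 2 ^ 7 * 3 ^ 2 * 5 * 7 := Dvd.intro_left _ (hc.symm.trans (by norm_num))
      have hle : ∀ q : ℕ, q.Prime → c ∣ q → c = q := fun q hq h =>
        (Nat.prime_dvd_prime_iff_eq hp hq).1 h
      rcases hp.dvd_mul.1 h7 with h | h
      · rcases hp.dvd_mul.1 h with h | h
        · rcases hp.dvd_mul.1 h with h | h
          · have := hle 2 (by norm_num) (hp.dvd_of_dvd_pow h); omega
          · have := hle 3 (by norm_num) (hp.dvd_of_dvd_pow h); omega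
        · have := hle 5 (by norm_num) h; omega
      · have := hle 7 (by norm_num) h; omega
  omega

theorem sq_le_two_pow {L : ℕ} (hL : 5 ≤ L) : 3 * (L + 1) ^ 2 + 1 ≤ 4 * 2 ^ L := by
  induction L, hL using Nat.le_induction with
  | base => norm_num
  | succ L hL ih => rw [pow_succ 2 L]; nlinarith

/-- The bound in the affine case. -/
theorem affine_case (N : Subgroup G) [N.Normal] [IsPretransitive N Ω] {T : Type} [Group T]
    [IsSimpleGroup T] [IsMulCommutative T] {k : ℕ} (hk : 2 ≤ k) (e : N ≃* (Fin k → T)) (a : Ω)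
    {l : ℕ} (hl : Ser (⊤ : Subgroup G) l) : 3 * l + 4 ≤ 4 * Nat.card Ω := by
  obtain ⟨hn, hrest⟩ := affine_card_le N e a
  obtain ⟨hp, hG⟩ := hrest (by omega)
  set n := Nat.card Ω with hndef
  set q := Nat.card T
  have h2l := hl.two_pow_le_card
  have hnk : 2 ^ k ≤ n := hn ▸ Nat.pow_le_pow_left hp.two_le k
  have hlt : ∀ b, n * (n - 1).descFactorial k < 2 ^ b → l < b := fun b hb => by
    by_contra h
    exact absurd ((Nat.pow_le_pow_right two_pos (not_lt.1 h)).trans (h2l.trans hG)) (not_le.2 hb)
  by_cases h32 : 32 ≤ n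
  · set L := Nat.log 2 n
    have hL : 5 ≤ L := Nat.le_log_of_pow_le (by norm_num) h32
    have hkL : k ≤ L := Nat.le_log_of_pow_le (by norm_num) hnk
    have hL1 : n < 2 ^ (L + 1) := Nat.lt_pow_succ_log_self (by norm_num) n
    have hL2 : 2 ^ L ≤ n := Nat.pow_log_le_self 2 (by omega)
    have hb : n * (n - 1).descFactorial k < 2 ^ ((L + 1) ^ 2) := by
      calc n * (n - 1).descFactorial k ≤ n * n ^ k := Nat.mul_le_mul_left _
            ((Nat.descFactorial_le_pow _ _).trans (Nat.pow_le_pow_left (Nat.sub_le _ _) _))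
        _ = n ^ (k + 1) := by ring
        _ < (2 ^ (L + 1)) ^ (k + 1) := Nat.pow_lt_pow_left hL1 (by omega)
        _ ≤ (2 ^ (L + 1)) ^ (L + 1) := Nat.pow_le_pow_right Nat.one_le_two_pow (by omega)
        _ = _ := by rw [← pow_mul]; ring_nf
    have := hlt _ hb
    have := sq_le_two_pow hL
    omega
  · have hk4 : k ≤ 4 := by
      by_contra h
      have := Nat.pow_le_pow_right two_pos (show 5 ≤ k by omega)
      omega
    have hq5 : q ≤ 5 := by
      by_contra h
      have h36 : 6 ^ 2 ≤ q ^ k :=
        (Nat.pow_le_pow_left (by omega : 6 ≤ q) 2).trans (Nat.pow_le_pow_right hp.pos hk)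
      omega
    have := hp.two_le
    interval_cases q <;> interval_cases k <;> norm_num at hn <;>
      first
        | (exfalso; omega)
        | (exfalso; revert hp; norm_num; done)
        | (have := length_le_nine (G := G) (Ω := Ω) (by omega) (by
            rw [hn] at hG; exact hG.trans (by decide)) hl; omega)
        | (rw [hn] at hlt ⊢; have := hlt 5 (by decide); omega)
        | (rw [hn] at hlt ⊢; have := hlt 10 (by decide); omega)
        | (rw [hn] at hlt ⊢; have := hlt 20 (by decide); omega)

end Cfsg.Agent.CompLength
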