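import Mathlib

/-! Lengths of subnormal series. `Ser H n`: there is a strict series of length `n` from `⊥` up to
`H`, each term normal in the next one. -/

set_option autoImplicit false

namespace Cfsg.Agent.CompLength

variable {G : Type*} [Group G]

inductive Ser : Subgroup G → ℕ → Prop
  | bot : Ser ⊥ 0
  | step {A B : Subgroup G} {n : ℕ} : Ser A n → A < B →
      (∀ b ∈ B, ∀ a ∈ A, b * a * b⁻¹ ∈ A) → Ser B (n + 1)

theorem Ser.map {H : Type*} [Group H] (f : G →* H) (hf : Function.Injective f) {A : Subgroup G}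
    {n : ℕ} (h : Ser A n) : Ser (A.map f) n := by
  induction h with
  | bot => rw [Subgroup.map_bot]; exact Ser.bot
  | step hA hlt hn ih =>
    refine Ser.step ih ((Subgroup.map_lt_map_iff_of_injective hf).2 hlt) ?_
    rintro _ ⟨b, hb, rfl⟩ _ ⟨a, ha, rfl⟩
    exact ⟨b * a * b⁻¹, hn b hb a ha, by simp⟩

/-- A series splits along a homomorphism. -/
theorem Ser.split {H : Type*} [Group H] (f : G →* H) {A : Subgroup G} {n : ℕ} (h : Ser A n) :
    ∃ a b, Ser (A.comap f.ker.subtype) a ∧ Ser (A.map f) b ∧ n ≤ a + b := by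
  induction h with
  | bot =>
    refine ⟨0, 0, ?_, ?_, le_rfl⟩
    · rw [MonoidHom.comap_bot, Subgroup.ker_subtype]; exact Ser.bot
    · rw [Subgroup.map_bot]; exact Ser.bot
  | @step A B m hA hlt hn ih =>
    obtain ⟨a, b, ha, hb, hab⟩ := ih
    have hnc : ∀ x ∈ B.comap f.ker.subtype, ∀ y ∈ A.comap f.ker.subtype,
        x * y * x⁻¹ ∈ A.comap f.ker.subtype := fun x hx y hy => by
      simp only [Subgroup.mem_comap, Subgroup.coe_subtype, Subgroup.coe_mul, Subgroup.coe_inv] at *
      exact hn _ hx _ hy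
    have hnm : ∀ x ∈ B.map f, ∀ y ∈ A.map f, x * y * x⁻¹ ∈ A.map f := by
      rintro _ ⟨x, hx, rfl⟩ _ ⟨y, hy, rfl⟩
      exact ⟨x * y * x⁻¹, hn x hx y hy, by simp⟩
    rcases (Subgroup.comap_mono (f := f.ker.subtype) hlt.le).lt_or_eq with hc | hc <;>
      rcases (Subgroup.map_mono (f := f) hlt.le).lt_or_eq with hd | hd
    · exact ⟨a + 1, b + 1, Ser.step ha hc hnc, Ser.step hb hd hnm, by omega⟩
    · exact ⟨a + 1, b, Ser.step ha hc hnc, hd ▸ hb, by omega⟩
    · exact ⟨a, b + 1, hc ▸ ha, Ser.step hb hd hnm, by omega⟩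
    · exfalso
      refine hlt.not_ge fun x hx => ?_
      obtain ⟨y, hy, hyx⟩ : f x ∈ A.map f := hd ▸ Subgroup.mem_map_of_mem f hx
      have hk : y⁻¹ * x ∈ f.ker := by simp [MonoidHom.mem_ker, hyx]
      have : (⟨y⁻¹ * x, hk⟩ : f.ker) ∈ A.comap f.ker.subtype := by
        rw [hc]
        exact B.mul_mem (B.inv_mem (hlt.le hy)) hx
      simpa using A.mul_mem hy this

/-- A series upstairs of a series in a quotient, one step longer if the kernel is non-trivial. -/
theorem Ser.lift {H : Type*} [Group H] (f : G →* H) (hf : Function.Surjective f) (d : ℕ)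
    (hd : d = 0 ∨ d = 1 ∧ f.ker ≠ ⊥) {A : Subgroup H} {n : ℕ} (h : Ser A n) :
    ∃ m, Ser (A.comap f) m ∧ n + d ≤ m := by
  induction h with
  | bot =>
    rw [MonoidHom.comap_bot]
    by_cases hb : f.ker = ⊥
    · exact ⟨0, hb ▸ Ser.bot, by rcases hd with rfl | ⟨-, h⟩; exacts [le_rfl, absurd hb h]⟩
    · refine ⟨1, Ser.step Ser.bot (bot_lt_iff_ne_bot.2 hb) ?_, by omega⟩
      intro x _ y hy
      rw [Subgroup.mem_bot] at hy ⊢
      simp [hy]
  | step hA hlt hn ih =>
    obtain ⟨m, hm, hle⟩ := ih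
    refine ⟨m + 1, Ser.step hm (lt_of_le_of_ne (Subgroup.comap_mono hlt.le) fun he =>
      hlt.ne (Subgroup.comap_injective hf he)) (fun x hx y hy => ?_), by omega⟩
    simp only [Subgroup.mem_comap, map_mul, map_inv] at *
    exact hn _ hx _ hy

open ArithmeticFunction in
theorem Ser.le_cardFactors [Finite G] {A : Subgroup G} {n : ℕ} (h : Ser A n) :
    n ≤ cardFactors (Nat.card A) := by
  induction h with
  | bot => simp
  | @step A B m hA hlt hn ih =>
    have hcard : Nat.card (A.subgroupOf B) = Nat.card A :=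
      Nat.card_congr (Subgroup.subgroupOfEquivOfLe hlt.le).toEquiv
    rw [← (A.subgroupOf B).card_mul_index, hcard,
      cardFactors_mul Nat.card_pos.ne' Subgroup.index_ne_zero_of_finite]
    have hidx : 1 < (A.subgroupOf B).index := by
      refine lt_of_le_of_ne (Nat.one_le_iff_ne_zero.2 Subgroup.index_ne_zero_of_finite) fun he => ?_
      exact hlt.not_ge (Subgroup.subgroupOf_eq_top.1 (Subgroup.index_eq_one.1 he.symm))
    have : 1 ≤ cardFactors (A.subgroupOf B).index := by
      rw [cardFactors_apply, Nat.one_le_iff_ne_zero, Ne, List.length_eq_zero_iff,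
        Nat.primeFactorsList_eq_nil]
      omega
    omega

theorem Ser.two_pow_le [Finite G] {A : Subgroup G} {n : ℕ} (h : Ser A n) :
    2 ^ n ≤ Nat.card A := by
  induction h with
  | bot => simp
  | @step A B m hA hlt hn ih =>
    have hcard : Nat.card (A.subgroupOf B) = Nat.card A :=
      Nat.card_congr (Subgroup.subgroupOfEquivOfLe hlt.le).toEquiv
    rw [← (A.subgroupOf B).card_mul_index, hcard, pow_succ]
    refine Nat.mul_le_mul ih ?_
    refine lt_of_le_of_ne (Nat.one_le_iff_ne_zero.2 Subgroup.index_ne_zero_of_finite) fun he => ?_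
    exact hlt.not_ge (Subgroup.subgroupOf_eq_top.1 (Subgroup.index_eq_one.1 he.symm))

theorem Ser.two_pow_le_card [Finite G] {A : Subgroup G} {n : ℕ} (h : Ser A n) :
    2 ^ n ≤ Nat.card G :=
  h.two_pow_le.trans (Subgroup.card_le_card_group A)

theorem Ser.eq_zero {n : ℕ} (h : Ser (⊥ : Subgroup G) n) : n = 0 := by
  cases h with
  | bot => rfl
  | step _ hlt _ => exact absurd hlt not_lt_bot

theorem Ser.le_one [IsSimpleGroup G] {n : ℕ} (h : Ser (⊤ : Subgroup G) n) : n ≤ 1 := by
  generalize hT : (⊤ : Subgroup G) = T at h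
  cases h with
  | bot => omega
  | @step A B m hA hlt hn =>
    subst hT
    have hnor : A.Normal := ⟨fun a ha g => hn g (Subgroup.mem_top g) a ha⟩
    rcases hnor.eq_bot_or_eq_top with rfl | rfl
    · rw [hA.eq_zero]
    · exact absurd hlt (lt_irrefl _)

theorem Ser.map_top {H : Type*} [Group H] (e : G ≃* H) {n : ℕ} (h : Ser (⊤ : Subgroup G) n) :
    Ser (⊤ : Subgroup H) n := by
  simpa [Subgroup.map_top_of_surjective (e.toMonoidHom : G →* H) e.surjective] using h.map e.toMonoidHom e.injective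

theorem Ser.split_top {H : Type*} [Group H] (f : G →* H) (hf : Function.Surjective f) {n : ℕ}
    (h : Ser (⊤ : Subgroup G) n) :
    ∃ a b, Ser (⊤ : Subgroup f.ker) a ∧ Ser (⊤ : Subgroup H) b ∧ n ≤ a + b := by
  simpa [Subgroup.map_top_of_surjective _ hf] using h.split f

/-- The length of a series of a power of a simple group. -/
theorem Ser.le_pi {T : Type*} [Group T] [IsSimpleGroup T] :
    ∀ (k : ℕ) {n : ℕ}, Ser (⊤ : Subgroup (Fin k → T)) n → n ≤ k := by
  intro k
  induction k with
  | zero =>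
    intro n h
    rw [show (⊤ : Subgroup (Fin 0 → T)) = ⊥ from Subsingleton.elim _ _] at h
    exact h.eq_zero.le
  | succ k ih =>
    intro n h
    let f : (Fin (k + 1) → T) →* T := Pi.evalMonoidHom (fun _ => T) 0
    obtain ⟨a, b, ha, hb, hab⟩ := h.split_top f fun t => ⟨fun _ => t, rfl⟩
    let e : f.ker ≃* (Fin k → T) :=
      { toFun := fun x => Fin.tail (x : Fin (k + 1) → T)
        invFun := fun y => ⟨Fin.cons 1 y, by simp [f, MonoidHom.mem_ker]⟩
        left_inv := fun x => by
          apply Subtype.ext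
          have hx : (x : Fin (k + 1) → T) 0 = 1 := x.2
          conv_rhs => rw [← Fin.cons_self_tail (x : Fin (k + 1) → T)]
          rw [hx]
        right_inv := fun y => Fin.tail_cons _ _
        map_mul' := fun x y => rfl }
    have := ih (ha.map_top e)
    have := hb.le_one
    omega

end Cfsg.Agent.CompLength
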