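import Cfsg.Agent.Lib.CompLength.Abelian

/-! The composition length is at most four thirds of the degree minus the number of orbits. -/

set_option autoImplicit false

namespace Cfsg.Agent.CompLength

open MulAction

theorem primitive {n : ℕ} (IH : BoundBelow n) {G : Type} [Group G] [Finite G] {Ω : Type}
    [Finite Ω] [MulAction G Ω] [FaithfulSMul G Ω] (hn : Nat.card Ω = n) (h2 : 2 ≤ n)
    [IsPretransitive G Ω] [IsPreprimitive G Ω] {l : ℕ} (hl : Ser (⊤ : Subgroup G) l) :
    3 * l + 4 ≤ 4 * n := by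
  have : Nontrivial Ω := Finite.one_lt_card_iff_nontrivial.1 (hn ▸ h2)
  obtain ⟨a, b, hab⟩ := exists_pair_ne Ω
  have : Nontrivial G := by
    obtain ⟨g, hg⟩ := exists_smul_eq G a b
    exact ⟨g, 1, fun h => hab (by rw [← hg, h, one_smul])⟩
  have hq : ∀ M : Subgroup G, M.Normal → M ≠ ⊥ → IsPretransitive M Ω := by
    intro M hM hne
    apply IsQuasiPreprimitive.isPretransitive_of_normal
    intro hfix
    refine hne ((Subgroup.eq_bot_iff_forall _).2 fun u hu =>
      FaithfulSMul.eq_of_smul_eq_smul (α := Ω) fun y => ?_)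
    rw [one_smul]
    exact (hfix.symm ▸ Set.mem_univ y : y ∈ fixedPoints M Ω) ⟨u, hu⟩
  obtain ⟨N, hNn, hN, hmin⟩ := Perm.CharSimple.exists_isMinNormal (X := G)
  have := hq N hNn hN
  obtain ⟨T, instT, k, hT, hk, ⟨e⟩⟩ := Perm.CharSimple.exists_simple_power N hN hmin
  set r := Nat.card (Quotient (orbitRel (stabilizer G a) (SubMulAction.ofStabilizer G a)))
  have hr : 1 ≤ r := by
    have : Nonempty (SubMulAction.ofStabilizer G a) :=
      ⟨⟨b, (SubMulAction.mem_ofStabilizer_iff G a).2 (Ne.symm hab)⟩⟩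
    exact one_le_orbits
  by_cases h1 : k = 1
  · have := length_le IH hn h2 N e a 0 (Or.inl rfl) hl
    omega
  by_cases hc : IsMulCommutative T
  · exact hn ▸ affine_case N (by omega) e a hl
  by_cases hreg : N ⊓ stabilizer G a = ⊥
  · have hkr : k ≤ r := regular_case N hc e a hreg
    have := length_le IH hn h2 N e a 0 (Or.inl rfl) hl
    omega
  by_cases hk2 : k = 2
  · have := length_le IH hn h2 N e a 1 (Or.inr ⟨rfl, hreg⟩) hl
    omega
  obtain ⟨Y, actY, finY, neY, faithY, hY⟩ :=
    exists_smaller_action N hq hN hmin hc (by omega) e a hreg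
  have := IH G Y (by omega) l hl
  have := one_le_orbits (G := G) (Ω := Y)
  omega

theorem bound : ∀ (n : ℕ) (G : Type) [Group G] [Finite G] (Ω : Type) [Finite Ω] [MulAction G Ω]
    [FaithfulSMul G Ω], Nat.card Ω = n → ∀ l, Ser (⊤ : Subgroup G) l →
      3 * l + 4 * Nat.card (Quotient (orbitRel G Ω)) ≤ 4 * n := by
  intro n
  induction n using Nat.strong_induction_on with
  | _ n ih =>
  intro G _ _ Ω _ _ _ hn l hl
  have IH : BoundBelow n := fun H _ _ Y _ _ _ hY m hm => ih _ hY H Y rfl m hm
  set r := Nat.card (Quotient (orbitRel G Ω)) with hr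
  have hrn : r ≤ n := hn ▸ Nat.card_le_card_of_surjective _ (Quotient.mk_surjective)
  by_cases h2 : n < 2
  · have : Subsingleton Ω := Finite.card_le_one_iff_subsingleton.1 (by omega)
    have : Subsingleton G := ⟨fun g h =>
      FaithfulSMul.eq_of_smul_eq_smul (α := Ω) fun y => Subsingleton.elim _ _⟩
    rw [show (⊤ : Subgroup G) = ⊥ from Subsingleton.elim _ _] at hl
    have := hl.eq_zero
    omega
  by_cases hr2 : 2 ≤ r
  · exact intransitive IH hn hr2 hl
  have : Nonempty Ω := (Nat.card_pos_iff.1 (by omega)).1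
  have h1 : Subsingleton (Quotient (orbitRel G Ω)) :=
    Finite.card_le_one_iff_subsingleton.1 (by omega)
  have : IsPretransitive G Ω := ⟨fun x y => by
    have h : orbitRel G Ω y x :=
      Quotient.exact (Subsingleton.elim (α := Quotient (orbitRel G Ω)) ⟦y⟧ ⟦x⟧)
    exact h⟩
  by_cases hp : IsPreprimitive G Ω
  · have := primitive IH hn (by omega) hl
    omega
  · have := imprimitive IH hn hp hl
    omega

/-- A chain of subgroups, each normal in the next, is a series. -/
theorem Ser.of_chain {G : Type*} [Group G] {l : ℕ} (H : Fin (l + 1) → Subgroup G) (h0 : H 0 = ⊥)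
    (hchain : ∀ i : Fin l, H i.castSucc < H i.succ ∧
      ((H i.castSucc).subgroupOf (H i.succ)).Normal) (i : Fin (l + 1)) : Ser (H i) i := by
  induction i using Fin.induction with
  | zero => rw [h0]; exact Ser.bot
  | succ i ih =>
    rw [Fin.val_succ]
    refine Ser.step ih (hchain i).1 fun b hb a ha => ?_
    exact (hchain i).2.conj_mem ⟨a, (hchain i).1.le ha⟩ ha ⟨b, hb⟩

end Cfsg.Agent.CompLength
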