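import Mathlib

/-! Automorphisms and subdirect subgroups of powers of a non-abelian simple group. -/

set_option autoImplicit false

namespace Cfsg.Agent.CompLength.Pi

variable {T : Type*} [Group T] [IsSimpleGroup T] {ι : Type*} [DecidableEq ι]

theorem eq_one_of_commute (hT : ¬ IsMulCommutative T) {a : T} (h : ∀ b, a * b = b * a) : a = 1 := by
  have hz : a ∈ Subgroup.center T := Subgroup.mem_center_iff.2 fun b => (h b).symm
  rcases (inferInstance : (Subgroup.center T).Normal).eq_bot_or_eq_top with hc | hc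
  · rwa [hc, Subgroup.mem_bot] at hz
  · exact absurd ⟨⟨fun x y => Subgroup.mem_center_iff.1 (hc ▸ Subgroup.mem_top y) x⟩⟩ hT

theorem exists_single (hT : ¬ IsMulCommutative T) (σ : MulAut (ι → T)) (i : ι) :
    ∃ j, ∀ t : T, ∀ l ≠ j, σ (Pi.mulSingle i t) l = 1 := by
  classical
  let f : ι → T →* T := fun l =>
    ((Pi.evalMonoidHom (fun _ => T) l).comp σ.toMonoidHom).comp (MonoidHom.mulSingle (fun _ => T) i)
  by_cases h : ∃ j t, f j t ≠ 1
  · obtain ⟨j, t, ht⟩ := h
    obtain ⟨s, hs⟩ : ∃ s, s * f j t * s⁻¹ * (f j t)⁻¹ ≠ 1 := by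
      by_contra hc
      push Not at hc
      exact ht (eq_one_of_commute hT fun b => (mul_inv_eq_iff_eq_mul.1 (mul_inv_eq_one.1 (hc b))).symm)
    refine ⟨j, fun u l hl => ?_⟩
    -- the element `single j [s, f j t]` lies in the image
    set y := σ.symm (Pi.mulSingle j s) with hy
    set w := y i * t * (y i)⁻¹ * t⁻¹ with hw
    have hc : σ (Pi.mulSingle i w) = Pi.mulSingle j (s * f j t * s⁻¹ * (f j t)⁻¹) := by
      have he : Pi.mulSingle i w = y * Pi.mulSingle i t * y⁻¹ * (Pi.mulSingle i t)⁻¹ := by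
        funext m
        by_cases hm : m = i
        · subst hm; simp [hw]
        · simp [hm]
      rw [he, map_mul, map_mul, map_mul, map_inv, map_inv, hy, MulEquiv.apply_symm_apply]
      funext m
      by_cases hm : m = j
      · subst hm; simp [f]
      · simp [hm]
    have hw1 : f l w = 1 := by
      show σ (Pi.mulSingle i w) l = 1
      rw [hc, Pi.mulSingle_eq_of_ne hl]
    have hwne : w ≠ 1 := fun e => hs (by
      have := congrFun hc j
      rw [e, Pi.mulSingle_one, map_one] at this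
      simpa using this.symm)
    rcases (MonoidHom.normal_ker (f l)).eq_bot_or_eq_top with hk | hk
    · exact absurd (hk ▸ (f l).mem_ker.2 hw1) (by simpa [Subgroup.mem_bot] using hwne)
    · exact (f l).mem_ker.1 (hk ▸ Subgroup.mem_top u)
  · push Not at h
    exact ⟨i, fun t l _ => h l t⟩

/-- An automorphism of a power of a non-abelian simple group permutes the factors. -/
theorem exists_perm [Finite ι] (hT : ¬ IsMulCommutative T) (σ : MulAut (ι → T)) :
    ∃ π : Equiv.Perm ι, ∃ τ : ι → T → T, (∀ i, Function.Bijective (τ i) ∧ τ i 1 = 1) ∧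
      (∀ i t, σ (Pi.mulSingle i t) = Pi.mulSingle (π i) (τ i t)) ∧
      ∀ x i, σ x (π i) = τ i (x i) := by
  classical
  choose π hπ using exists_single hT σ
  choose π' hπ' using exists_single hT σ.symm
  have hsingle : ∀ i t, σ (Pi.mulSingle i t) = Pi.mulSingle (π i) (σ (Pi.mulSingle i t) (π i)) := by
    intro i t
    funext l
    by_cases hl : l = π i
    · subst hl; simp
    · simp [hl, hπ i t l hl]
  have hinv : ∀ i, π' (π i) = i := by
    intro i
    obtain ⟨t, ht⟩ := exists_ne (1 : T)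
    by_contra hne
    apply ht
    have h1 := hπ' (π i) (σ (Pi.mulSingle i t) (π i)) i (Ne.symm hne)
    rw [← hsingle, MulEquiv.symm_apply_apply] at h1
    simpa using h1
  have hinj : Function.Injective π := Function.LeftInverse.injective hinv
  let e := Equiv.ofBijective π ((Finite.injective_iff_bijective).1 hinj)
  refine ⟨e, fun i t => σ (Pi.mulSingle i t) (π i), fun i => ⟨⟨fun t u h => ?_, fun s => ?_⟩, ?_⟩,
    hsingle, fun x i => ?_⟩
  · exact Pi.mulSingle_injective i (σ.injective (by rw [hsingle i t, hsingle i u]; exact congrArg _ h))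
  · refine ⟨σ.symm (Pi.mulSingle (π i) s) i, ?_⟩
    have h1 : σ.symm (Pi.mulSingle (π i) s) = Pi.mulSingle i (σ.symm (Pi.mulSingle (π i) s) i) := by
      funext l
      by_cases hl : l = i
      · subst hl; simp
      · simp [hl, hπ' (π i) s l (by rw [hinv]; exact hl)]
    show σ (Pi.mulSingle i _) (π i) = s
    rw [← h1, MulEquiv.apply_symm_apply, Pi.mulSingle_eq_same]
  · simp
  · show σ x (π i) = σ (Pi.mulSingle i (x i)) (π i)
    set x' := (Pi.mulSingle i (x i))⁻¹ * x with hx'
    have hx : x = Pi.mulSingle i (x i) * x' := by simp [hx']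
    conv_lhs => rw [hx, map_mul, Pi.mul_apply]
    rw [mul_eq_left]
    refine eq_one_of_commute hT fun b => ?_
    have hc : Commute x' (σ.symm (Pi.mulSingle (π i) b)) := by
      funext l
      by_cases hl : l = i
      · subst hl; simp [hx']
      · simp [hπ' (π i) b l (by rw [hinv]; exact hl)]
    have := congrFun (hc.map σ).eq (π i)
    simpa using this

/-- A subdirect subgroup that meets each factor trivially has order at most the square root. -/
theorem card_sq_le [Finite T] [Finite ι] (hT : ¬ IsMulCommutative T) :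
    ∀ (I : Finset ι) (K : Subgroup (ι → T)), (∀ x ∈ K, ∀ i ∉ I, x i = 1) →
      (∀ i ∈ I, ∀ t, ∃ x ∈ K, x i = t) → (∀ i t, Pi.mulSingle i t ∈ K → t = 1) →
      Nat.card K ^ 2 ≤ Nat.card T ^ I.card := by
  intro I
  induction I using Finset.strongInduction with
  | _ I ih =>
  intro K hout hfull htriv
  classical
  by_cases hK : K = ⊥
  · subst hK
    simp only [Subgroup.card_bot, one_pow]
    exact Nat.one_le_pow _ _ Nat.card_pos
  -- a minimal subgroup normalized by `K`
  obtain ⟨M, ⟨hMK, hMne, hMn⟩, hmin⟩ := (Set.toFinite {M : Subgroup (ι → T) | M ≤ K ∧ M ≠ ⊥ ∧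
      ∀ k ∈ K, ∀ m ∈ M, k * m * k⁻¹ ∈ M}).exists_minimal
    ⟨K, le_rfl, hK, fun k hk m hm => K.mul_mem (K.mul_mem hk hm) (K.inv_mem hk)⟩
  have hproj : ∀ i, (∃ m ∈ M, m i ≠ 1) → ∀ t, ∃ m ∈ M, m i = t := by
    rintro i ⟨m0, hm0, hne⟩
    have hi : i ∈ I := by_contra fun hi => hne (hout m0 (hMK hm0) i hi)
    let P := M.map (Pi.evalMonoidHom (fun _ => T) i)
    have hPn : P.Normal := by
      refine ⟨?_⟩
      rintro _ ⟨m, hm, rfl⟩ g
      obtain ⟨x, hx, rfl⟩ := hfull i hi g
      exact ⟨x * m * x⁻¹, hMn x hx m hm, by simp⟩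
    rcases hPn.eq_bot_or_eq_top with h | h
    · exact absurd (Subgroup.mem_bot.1 (h ▸ (⟨m0, hm0, rfl⟩ : m0 i ∈ P))) hne
    · intro t
      obtain ⟨m, hm, hmt⟩ := (h ▸ Subgroup.mem_top t : t ∈ P)
      exact ⟨m, hm, hmt⟩
  let S := I.filter fun i => ∃ m ∈ M, m i ≠ 1
  have hS2 : 2 ≤ S.card := by
    by_contra hlt
    obtain ⟨m, hm, hm1⟩ := M.ne_bot_iff_exists_ne_one.1 hMne |>.elim fun m hm =>
      (⟨m.1, m.2, fun e => hm (Subtype.ext e)⟩ : ∃ m ∈ M, m ≠ 1)
    obtain ⟨i, hi⟩ : ∃ i, m i ≠ 1 := by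
      by_contra hc; push Not at hc; exact hm1 (funext hc)
    have hiS : i ∈ S := Finset.mem_filter.2
      ⟨by_contra fun hiI => hi (hout m (hMK hm) i hiI), m, hm, hi⟩
    refine hi ?_
    have hm' : m = Pi.mulSingle i (m i) := by
      funext l
      by_cases hl : l = i
      · subst hl; simp
      · rw [Pi.mulSingle_eq_of_ne hl]
        by_contra hne
        have hlS : l ∈ S := Finset.mem_filter.2
          ⟨by_contra fun hlI => hne (hout m (hMK hm) l hlI), m, hm, hne⟩
        exact absurd (Finset.one_lt_card.2 ⟨l, hlS, i, hiS, hl⟩) (by omega)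
    exact htriv i (m i) (hm' ▸ hMK hm)
  obtain ⟨i, hiS⟩ : S.Nonempty := Finset.card_pos.1 (by omega)
  obtain ⟨hiI, hiM⟩ := Finset.mem_filter.1 hiS
  let f : K →* T := (Pi.evalMonoidHom (fun _ => T) i).comp K.subtype
  have hker : ∀ x : ι → T, x ∈ K → x i = 1 → ∀ l ∈ S, x l = 1 := by
    intro x hx hxi l hl
    -- elements of `M` trivial at `i` are trivial
    let M' := M ⊓ (Pi.evalMonoidHom (fun _ => T) i).ker
    have hM' : M' = ⊥ := by
      by_contra hne
      have hle : M ≤ M' := hmin ⟨inf_le_left.trans hMK, hne, fun k hk m hm =>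
        ⟨hMn k hk m hm.1, (MonoidHom.normal_ker _).conj_mem _ hm.2 _⟩⟩ inf_le_left
      obtain ⟨m, hm, hmi⟩ := hiM
      exact hmi (hle hm).2
    obtain ⟨-, hlM⟩ := Finset.mem_filter.1 hl
    refine eq_one_of_commute hT fun b => ?_
    obtain ⟨m, hm, rfl⟩ := hproj l hlM b
    have : x * m * x⁻¹ * m⁻¹ ∈ M' :=
      ⟨M.mul_mem (hMn x hx m hm) (M.inv_mem hm), by simp [MonoidHom.mem_ker, hxi]⟩
    rw [hM', Subgroup.mem_bot] at this
    have := congrFun this l
    simp only [Pi.mul_apply, Pi.inv_apply, Pi.one_apply] at this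
    exact mul_inv_eq_iff_eq_mul.1 (mul_inv_eq_one.1 this)
  let K' : Subgroup (ι → T) := K ⊓ (Pi.evalMonoidHom (fun _ => T) i).ker
  let I' := I.filter fun l => ∃ x ∈ K', x l ≠ 1
  have hdis : Disjoint I' S := Finset.disjoint_left.2 fun l hl hlS => by
    obtain ⟨-, x, hx, hne⟩ := Finset.mem_filter.1 hl
    exact hne (hker x hx.1 hx.2 l hlS)
  have hI'I : I' ⊂ I := by
    refine Finset.ssubset_iff_subset_ne.2 ⟨Finset.filter_subset _ _, fun he => ?_⟩
    exact Finset.disjoint_left.1 hdis (he ▸ hiI) hiS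
  have ih' := ih I' hI'I K' (fun x hx l hl => by
      by_contra hne
      exact hl (Finset.mem_filter.2 ⟨by_contra fun h => hne (hout x hx.1 l h), x, hx, hne⟩))
    (fun l hl t => by
      obtain ⟨hlI, x0, hx0, hne⟩ := Finset.mem_filter.1 hl
      let P := K'.map (Pi.evalMonoidHom (fun _ => T) l)
      have hPn : P.Normal := by
        refine ⟨?_⟩
        rintro _ ⟨m, hm, rfl⟩ g
        obtain ⟨x, hx, rfl⟩ := hfull l hlI g
        exact ⟨x * m * x⁻¹, ⟨K.mul_mem (K.mul_mem hx hm.1) (K.inv_mem hx),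
          (MonoidHom.normal_ker _).conj_mem _ hm.2 _⟩, by simp⟩
      rcases hPn.eq_bot_or_eq_top with h | h
      · exact absurd (Subgroup.mem_bot.1 (h ▸ (⟨x0, hx0, rfl⟩ : x0 l ∈ P))) hne
      · obtain ⟨x, hx, hxt⟩ := (h ▸ Subgroup.mem_top t : t ∈ P)
        exact ⟨x, hx, hxt⟩)
    (fun l t h => htriv l t h.1)
  have hcard : Nat.card K = Nat.card f.ker * Nat.card f.range := by
    rw [← f.ker.card_mul_index, Subgroup.index_ker]
  have hK' : Nat.card f.ker = Nat.card K' := by
    refine Nat.card_congr ⟨fun x => ⟨x.1.1, x.1.2, x.2⟩, fun x => ⟨⟨x.1, x.2.1⟩, x.2.2⟩,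
      fun _ => rfl, fun _ => rfl⟩
  have hle : I'.card + 2 ≤ I.card := by
    have h1 := Finset.card_le_card (Finset.union_subset (Finset.filter_subset _ _)
      (Finset.filter_subset _ _) : I' ∪ S ⊆ I)
    rw [Finset.card_union_of_disjoint hdis] at h1
    omega
  calc Nat.card K ^ 2 ≤ Nat.card K' ^ 2 * Nat.card T ^ 2 := by
        rw [hcard, hK', mul_pow]
        gcongr
        exact Subgroup.card_le_card_group _
    _ ≤ Nat.card T ^ I'.card * Nat.card T ^ 2 := by gcongr
    _ ≤ Nat.card T ^ I.card := by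
        rw [← pow_add]
        exact Nat.pow_le_pow_right Nat.card_pos hle

end Cfsg.Agent.CompLength.Pi
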