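import Cfsg.Agent.Lib.CompLength.Reduce
import Cfsg.Agent.Lib.CompLength.Pi
import Cfsg.Agent.Lib.Perm.CharSimple

/-! The bound on the composition length of a primitive group, by induction on the degree. -/

set_option autoImplicit false

namespace Cfsg.Agent.CompLength

open MulAction

set_option linter.unusedSectionVars false

section Coordinates

variable {G : Type} [Group G] {N : Subgroup G} [N.Normal] {T : Type} [Group T] {k : ℕ}
  (e : N ≃* (Fin k → T))

/-- Conjugation in the coordinates of `N`. -/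
def rho : G →* MulAut (Fin k → T) where
  toFun g := (e.symm.trans (MulAut.conjNormal g)).trans e
  map_one' := by ext x; simp
  map_mul' g h := by ext x; simp

/-- The coordinates as elements of `G`. -/
def emb : (Fin k → T) →* G := N.subtype.comp e.symm.toMonoidHom

theorem emb_injective : Function.Injective (emb e) :=
  N.subtype_injective.comp e.symm.injective

theorem emb_mem (x : Fin k → T) : emb e x ∈ N := (e.symm x).2

theorem emb_rho (g : G) (x : Fin k → T) : emb e (rho e g x) = g * emb e x * g⁻¹ := by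
  simp [emb, rho, MulAut.conjNormal_apply]

theorem exists_emb {u : G} (hu : u ∈ N) : ∃ x, emb e x = u := ⟨e ⟨u, hu⟩, by simp [emb]⟩

theorem rho_emb (z x : Fin k → T) : rho e (emb e z) x = z * x * z⁻¹ := by
  apply emb_injective e
  rw [emb_rho, map_mul, map_mul, map_inv]

end Coordinates

theorem ten_le_card {T : Type} [Group T] [Finite T] [IsSimpleGroup T]
    (hT : ¬ IsMulCommutative T) : 10 ≤ Nat.card T := by
  have hnp : ∀ p : ℕ, p.Prime → ∀ m : ℕ, Nat.card T ≠ p ^ m := by
    intro p hp m he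
    have := Fact.mk hp
    have : Nontrivial (Subgroup.center T) := (IsPGroup.of_card he).center_nontrivial
    obtain ⟨z, hz⟩ := exists_ne (1 : Subgroup.center T)
    exact hz (Subtype.ext (Pi.eq_one_of_commute hT fun b => (Subgroup.mem_center_iff.1 z.2 b).symm))
  by_contra h
  push Not at h
  have h1 : 1 < Nat.card T := Finite.one_lt_card_iff_nontrivial.2 inferInstance
  have h6 : Nat.card T ≠ 6 := by
    intro h6
    obtain ⟨t, ht⟩ := @exists_prime_orderOf_dvd_card' T _ _ 3 ⟨by norm_num⟩ (h6 ▸ by norm_num)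
    have hi : (Subgroup.zpowers t).index = 2 := by
      have := (Subgroup.zpowers t).card_mul_index
      rw [Nat.card_zpowers, ht, h6] at this
      omega
    rcases (Subgroup.normal_of_index_eq_two hi).eq_bot_or_eq_top with hb | hb
    · have := congrArg (fun H : Subgroup T => Nat.card H) hb
      simp [Nat.card_zpowers, ht] at this
    · simp [hb] at hi
  interval_cases hc : Nat.card T
  · exact hnp 2 (by norm_num) 1 (by norm_num [hc])
  · exact hnp 3 (by norm_num) 1 (by norm_num [hc])
  · exact hnp 2 (by norm_num) 2 (by norm_num [hc])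
  · exact hnp 5 (by norm_num) 1 (by norm_num [hc])
  · exact h6 rfl
  · exact hnp 7 (by norm_num) 1 (by norm_num [hc])
  · exact hnp 2 (by norm_num) 3 (by norm_num [hc])
  · exact hnp 3 (by norm_num) 2 (by norm_num [hc])

variable {n : ℕ} {G : Type} [Group G] [Finite G] {Ω : Type} [Finite Ω] [MulAction G Ω]
  [FaithfulSMul G Ω]

/-- A transitive normal subgroup: the stabiliser covers the quotient. -/
theorem exists_decomp (N : Subgroup G) [IsPretransitive N Ω] (a : Ω) (g : G) :
    ∃ u ∈ N, ∃ h ∈ stabilizer G a, g = u * h := by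
  obtain ⟨u, hu⟩ := exists_smul_eq N a (g • a)
  refine ⟨u, u.2, (u : G)⁻¹ * g, ?_, by group⟩
  rw [mem_stabilizer_iff, mul_smul, inv_smul_eq_iff]
  exact hu.symm

/-- The composition length is bounded by `k` plus that of a point stabiliser. -/
theorem length_le (IH : BoundBelow n) (hn : Nat.card Ω = n) (h2 : 2 ≤ n) (N : Subgroup G)
    [N.Normal] [IsPretransitive N Ω] {T : Type} [Group T] [IsSimpleGroup T] {k : ℕ}
    (e : N ≃* (Fin k → T)) (a : Ω) (d : ℕ) (hd : d = 0 ∨ d = 1 ∧ N ⊓ stabilizer G a ≠ ⊥) {l : ℕ}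
    (hl : Ser (⊤ : Subgroup G) l) :
    3 * l + 4 * Nat.card (Quotient (orbitRel (stabilizer G a) (SubMulAction.ofStabilizer G a)))
      + 3 * d ≤ 3 * k + 4 * (n - 1) := by
  obtain ⟨x, b, hx, hb, hxb⟩ := hl.split_top (QuotientGroup.mk' N) (QuotientGroup.mk'_surjective N)
  have hxk : x ≤ k :=
    Ser.le_pi k ((hx.map_top (MulEquiv.subgroupCongr (QuotientGroup.ker_mk' N))).map_top e)
  let ψ : stabilizer G a →* G ⧸ N := (QuotientGroup.mk' N).comp (stabilizer G a).subtype
  have hψ : Function.Surjective ψ := by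
    intro q
    obtain ⟨g, rfl⟩ := QuotientGroup.mk'_surjective N q
    obtain ⟨u, hu, h, hh, rfl⟩ := exists_decomp N a g
    refine ⟨⟨h, hh⟩, ?_⟩
    simp [ψ, (QuotientGroup.eq_one_iff u).2 hu]
  have hker : d = 0 ∨ d = 1 ∧ ψ.ker ≠ ⊥ := by
    refine hd.imp_right fun ⟨h1, h⟩ => ⟨h1, fun hbot => h ?_⟩
    refine (Subgroup.eq_bot_iff_forall _).2 fun u hu => ?_
    have : (⟨u, hu.2⟩ : stabilizer G a) ∈ ψ.ker :=
      (QuotientGroup.eq_one_iff (N := N) u).2 hu.1
    rw [hbot, Subgroup.mem_bot] at this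
    exact congrArg Subtype.val this
  obtain ⟨m, hm, hbm⟩ := hb.lift ψ hψ d hker
  rw [Subgroup.comap_top] at hm
  have : FaithfulSMul (stabilizer G a) (SubMulAction.ofStabilizer G a) := by
    refine ⟨fun {g h} hgh => Subtype.ext (FaithfulSMul.eq_of_smul_eq_smul (α := Ω) fun x => ?_)⟩
    by_cases hx : x = a
    · subst hx; rw [mem_stabilizer_iff.1 g.2, mem_stabilizer_iff.1 h.2]
    · exact congrArg Subtype.val (hgh ⟨x, (SubMulAction.mem_ofStabilizer_iff G a).2 hx⟩)
  have hcard := SubMulAction.nat_card_ofStabilizer_add_one_eq G a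
  rw [hn] at hcard
  have := IH (stabilizer G a) (SubMulAction.ofStabilizer G a) (by omega) m hm
  omega

/-- Regular socle of non-abelian type: at least `k` suborbits. -/
theorem regular_case (N : Subgroup G) [N.Normal] [IsPretransitive N Ω] {T : Type} [Group T]
    [IsSimpleGroup T] (hT : ¬ IsMulCommutative T) {k : ℕ} (e : N ≃* (Fin k → T)) (a : Ω)
    (hreg : N ⊓ stabilizer G a = ⊥) :
    k ≤ Nat.card (Quotient (orbitRel (stabilizer G a) (SubMulAction.ofStabilizer G a))) := by
  classical
  have hν : ∀ y : Ω, ∃ x : Fin k → T, emb e x • a = y := by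
    intro y
    obtain ⟨u, hu⟩ := exists_smul_eq N a y
    obtain ⟨x, hx⟩ := exists_emb e u.2
    exact ⟨x, by rw [hx]; exact hu⟩
  choose ν hν using hν
  have hinj : ∀ x y : Fin k → T, emb e x • a = emb e y • a → x = y := by
    intro x y h
    have hm : (emb e y)⁻¹ * emb e x ∈ N ⊓ stabilizer G a :=
      ⟨N.mul_mem (N.inv_mem (emb_mem e y)) (emb_mem e x), by
        simp [mem_stabilizer_iff, mul_smul, h]⟩
    rw [hreg, Subgroup.mem_bot] at hm
    exact emb_injective e (inv_mul_eq_one.1 hm).symm
  let f : SubMulAction.ofStabilizer G a → ℕ := fun y =>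
    (Finset.univ.filter fun i => ν (y : Ω) i ≠ 1).card
  have hf : ∀ (h : stabilizer G a) (y : SubMulAction.ofStabilizer G a), f (h • y) = f y := by
    intro h y
    have he : ν ((h • y : SubMulAction.ofStabilizer G a) : Ω) = rho e h (ν (y : Ω)) := by
      apply hinj
      rw [hν, emb_rho, mul_smul, mul_smul, inv_smul_eq_iff.2 (mem_stabilizer_iff.1 h.2).symm, hν]
      rfl
    obtain ⟨π, τ, hτ, -, hval⟩ := Pi.exists_perm hT (rho e (h : G))
    show Finset.card _ = Finset.card _
    rw [← Finset.card_map (f := π.toEmbedding) (s := Finset.univ.filter fun i => ν (y : Ω) i ≠ 1)]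
    congr 1
    ext j
    obtain ⟨i, rfl⟩ := π.surjective j
    simp only [Finset.mem_filter, Finset.mem_univ, true_and, Finset.mem_map_equiv,
      Equiv.symm_apply_apply, he, hval]
    exact not_congr ⟨fun h1 => (hτ i).1.1 (h1.trans (hτ i).2.symm), fun h1 => by rw [h1, (hτ i).2]⟩
  refine le_trans ?_ (card_range_le (G := stabilizer G a) f hf)
  obtain ⟨t, ht⟩ := exists_ne (1 : T)
  have hj : ∀ j : Fin k, ∃ y, f y = (j : ℕ) + 1 := by
    intro j
    let x : Fin k → T := fun i => if i ≤ j then t else 1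
    have hne : emb e x • a ≠ a := by
      intro h
      have h' : x = 1 := hinj x 1 (by rw [map_one, one_smul]; exact h)
      exact ht (by simpa [x] using congrFun h' j)
    refine ⟨⟨emb e x • a, (SubMulAction.mem_ofStabilizer_iff G a).2 hne⟩, ?_⟩
    show Finset.card _ = _
    rw [hinj _ x (hν _)]
    have : (Finset.univ.filter fun i => x i ≠ 1) = Finset.Iic j := by
      ext i; by_cases hi : i ≤ j <;> simp [x, hi, ht]
    rw [this, Fin.card_Iic]
  choose y hy using hj
  calc k = Nat.card (Fin k) := (Nat.card_fin k).symm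
    _ ≤ Nat.card (Set.range f) := by
      refine Nat.card_le_card_of_injective (fun j => (⟨f (y j), y j, rfl⟩ : Set.range f)) fun i j h => ?_
      have := congrArg Subtype.val h
      simp only [hy] at this
      exact Fin.ext (by omega)

theorem mul_lt_pow {m k : ℕ} (hm : 2 ≤ m) (hk : 3 ≤ k) : k * m < m ^ k := by
  induction k, hk using Nat.le_induction with
  | base =>
    have h4 : 2 * 2 ≤ m * m := Nat.mul_le_mul hm hm
    calc 3 * m < 4 * m := by omega
      _ ≤ m * m * m := Nat.mul_le_mul_right _ h4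
      _ = m ^ 3 := by ring
  | succ k hk ih =>
    calc (k + 1) * m ≤ 2 * (k * m) := by rw [← mul_assoc]; exact Nat.mul_le_mul_right _ (by omega)
      _ < 2 * m ^ k := by omega
      _ ≤ m * m ^ k := Nat.mul_le_mul_right _ hm
      _ = m ^ (k + 1) := by ring

theorem mul_sq_lt_pow {t k : ℕ} (ht : 10 ≤ t) (hk : 3 ≤ k) : (k * t) ^ 2 < t ^ k := by
  induction k, hk using Nat.le_induction with
  | base =>
    calc (3 * t) ^ 2 = 9 * t ^ 2 := by ring
      _ < t * t ^ 2 := Nat.mul_lt_mul_of_pos_right (by omega) (Nat.pow_pos (by omega))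
      _ = t ^ 3 := by ring
  | succ k hk ih =>
    have h3 : (k + 1) ^ 2 ≤ 2 * k ^ 2 := by nlinarith
    calc ((k + 1) * t) ^ 2 = (k + 1) ^ 2 * t ^ 2 := by ring
      _ ≤ 2 * k ^ 2 * t ^ 2 := Nat.mul_le_mul_right _ h3
      _ = 2 * (k * t) ^ 2 := by ring
      _ < 2 * t ^ k := by omega
      _ ≤ t * t ^ k := Nat.mul_le_mul_right _ (by omega)
      _ = t ^ (k + 1) := by ring

theorem mulSingle_index {T : Type} [Group T] {k : ℕ} {i j : Fin k} {s t : T} (hs : s ≠ 1)
    (h : Pi.mulSingle (M := fun _ => T) i s = Pi.mulSingle j t) : i = j := by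
  by_contra hne
  have h' := congrFun h i
  simp [hne] at h'
  exact hs h'

/-- Non-regular socle with at least three factors: an action on fewer points. -/
theorem exists_smaller_action (N : Subgroup G) [N.Normal] [IsPretransitive N Ω]
    (hq : ∀ M : Subgroup G, M.Normal → M ≠ ⊥ → IsPretransitive M Ω)
    (hN : N ≠ ⊥) (hmin : ∀ M : Subgroup G, M.Normal → M ≤ N → M = ⊥ ∨ M = N)
    {T : Type} [Group T] [IsSimpleGroup T] (hT : ¬ IsMulCommutative T) {k : ℕ} (hk : 3 ≤ k)
    (e : N ≃* (Fin k → T)) (a : Ω) (hnr : N ⊓ stabilizer G a ≠ ⊥) :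
    ∃ (Y : Type) (_ : MulAction G Y) (_ : Finite Y) (_ : Nonempty Y),
      FaithfulSMul G Y ∧ Nat.card Y < Nat.card Ω := by
  classical
  have : Finite T := Finite.of_injective (fun t => e.symm (Pi.mulSingle ⟨0, by omega⟩ t))
    (e.symm.injective.comp (Pi.mulSingle_injective (M := fun _ : Fin k => T) _))
  -- `N` has trivial centraliser
  have hcent : ∀ c : G, (∀ u ∈ N, c * u = u * c) → c = 1 := by
    by_contra hc
    push Not at hc
    obtain ⟨c, hc, hc1⟩ := hc
    have hmem : c ∈ Subgroup.centralizer (N : Set G) :=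
      Subgroup.mem_centralizer_iff.2 fun u hu => (hc u hu).symm
    have := hq (Subgroup.centralizer (N : Set G)) inferInstance fun hb =>
      hc1 (Subgroup.mem_bot.1 (hb ▸ hmem))
    apply hnr
    refine (Subgroup.eq_bot_iff_forall _).2 fun u hu => FaithfulSMul.eq_of_smul_eq_smul (α := Ω) fun y => ?_
    rw [one_smul]
    obtain ⟨⟨d, hd⟩, hdy⟩ := exists_smul_eq (Subgroup.centralizer (N : Set G)) a y
    change d • a = y at hdy
    rw [← hdy, ← mul_smul, Subgroup.mem_centralizer_iff.1 hd u hu.1, mul_smul,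
      mem_stabilizer_iff.1 hu.2]
  have hrho : ∀ g : G, (∀ x, rho e g x = x) → g = 1 := fun g hg => hcent g fun u hu => by
    obtain ⟨x, rfl⟩ := exists_emb e hu
    have h1 := emb_rho e g x
    rw [hg] at h1
    exact (eq_mul_inv_iff_mul_eq.1 h1).symm
  choose π τ hτ hsingle hval using fun g : G => Pi.exists_perm hT (rho e g)
  obtain ⟨t₀, ht₀⟩ := exists_ne (1 : T)
  have hτne : ∀ g i, τ g i t₀ ≠ 1 := fun g i h => ht₀ ((hτ g i).1.1 (h.trans (hτ g i).2.symm))
  have hπmul : ∀ g h i, π (g * h) i = π g (π h i) := by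
    intro g h i
    refine mulSingle_index (hτne (g * h) i) (t := τ g (π h i) (τ h i t₀)) ?_
    rw [← hsingle, map_mul, MulAut.mul_apply, hsingle, hsingle]
  have hπemb : ∀ z i, π (emb e z) i = i := by
    intro z i
    refine mulSingle_index (hτne (emb e z) i) (t := z i * t₀ * (z i)⁻¹) ?_
    rw [← hsingle, rho_emb]
    funext l
    by_cases hl : l = i
    · subst hl; simp
    · simp [hl]
  have hπone : ∀ i, π 1 i = i := fun i => by simpa using hπemb 1 i
  -- transitivity on the factors
  have htrans : ∀ i j, ∃ h ∈ stabilizer G a, π h i = j := by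
    intro i
    let U : Fin k → Prop := fun j => ∃ g, π g i = j
    let M₀ : Subgroup (Fin k → T) :=
      { carrier := {x | ∀ j, ¬ U j → x j = 1}
        one_mem' := fun j _ => rfl
        mul_mem' := fun {x y} hx hy j hj => by simp [hx j hj, hy j hj]
        inv_mem' := fun {x} hx j hj => by simp [hx j hj] }
    have hM : (M₀.map (emb e)).Normal := by
      refine ⟨?_⟩
      rintro _ ⟨x, hx, rfl⟩ g
      refine ⟨rho e g x, fun j hj => ?_, emb_rho e g x⟩
      obtain ⟨l, rfl⟩ := (π g).surjective j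
      rw [hval]
      have hl : ¬ U l := fun ⟨h, hh⟩ => hj ⟨g * h, by rw [hπmul, hh]⟩
      rw [hx l hl, (hτ g l).2]
    rcases hmin _ hM (fun _ ⟨x, _, hx⟩ => hx ▸ emb_mem e x) with hb | hb
    · exfalso
      apply ht₀
      have : emb e (Pi.mulSingle i t₀) ∈ M₀.map (emb e) := by
        refine Subgroup.mem_map_of_mem _ fun j hj => Pi.mulSingle_eq_of_ne ?_ _
        rintro rfl
        exact hj ⟨1, hπone _⟩
      rw [hb, Subgroup.mem_bot, ← map_one (emb e)] at this
      simpa using congrFun (emb_injective e this) i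
    · intro j
      have hmem : emb e (Pi.mulSingle (M := fun _ => T) j t₀) ∈ M₀.map (emb e) := by
        rw [hb]; exact emb_mem e _
      obtain ⟨x, hx, hxe⟩ := hmem
      obtain ⟨g, hg⟩ : U j := by
        by_contra hj
        have h1 := hx j hj
        rw [emb_injective e hxe, Pi.mulSingle_eq_same] at h1
        exact ht₀ h1
      obtain ⟨u, hu, h, hh, rfl⟩ := exists_decomp N a g
      refine ⟨h, hh, ?_⟩
      obtain ⟨z, rfl⟩ := exists_emb e hu
      rwa [hπmul, hπemb] at hg
  -- the stabiliser in `N`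
  letI : MulAction (Fin k → T) Ω := MulAction.compHom Ω (emb e)
  have : IsPretransitive (Fin k → T) Ω := ⟨fun x y => by
    obtain ⟨u, hu⟩ := exists_smul_eq N x y
    obtain ⟨z, hz⟩ := exists_emb e u.2
    exact ⟨z, by show emb e z • x = y; rw [hz]; exact hu⟩⟩
  let K : Subgroup (Fin k → T) := stabilizer (Fin k → T) a
  have hmemK : ∀ x, x ∈ K ↔ emb e x ∈ stabilizer G a := fun _ => Iff.rfl
  have hcardK : Nat.card K * Nat.card Ω = Nat.card T ^ k := by
    rw [← index_stabilizer_of_transitive (Fin k → T) a, K.card_mul_index, Nat.card_fun,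
      Nat.card_fin]
  have hKne : K ≠ ⊥ := by
    intro hK
    refine hnr ((Subgroup.eq_bot_iff_forall _).2 fun u hu => ?_)
    obtain ⟨x, rfl⟩ := exists_emb e hu.1
    have hx : x ∈ K := (hmemK x).2 hu.2
    rw [hK, Subgroup.mem_bot] at hx
    rw [hx, map_one]
  have hKinv : ∀ h ∈ stabilizer G a, ∀ x ∈ K, rho e h x ∈ K := fun h hh x hx => by
    rw [hmemK, emb_rho]
    exact (stabilizer G a).mul_mem ((stabilizer G a).mul_mem hh ((hmemK x).1 hx))
      ((stabilizer G a).inv_mem hh)
  let R : Fin k → Subgroup T := fun i => K.map (Pi.evalMonoidHom (fun _ => T) i)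
  have hRτ : ∀ h ∈ stabilizer G a, ∀ i, ∀ r ∈ R i, τ h i r ∈ R (π h i) := by
    rintro h hh i _ ⟨x, hx, rfl⟩
    exact ⟨rho e h x, hKinv h hh x hx, hval h x i⟩
  have hRcard : ∀ i j, Nat.card (R i) ≤ Nat.card (R j) := by
    intro i j
    obtain ⟨h, hh, rfl⟩ := htrans i j
    refine Nat.card_le_card_of_injective (fun r => ⟨τ h i r.1, hRτ h hh i r.1 r.2⟩) fun r s hrs => ?_
    exact Subtype.ext ((hτ h i).1.1 (congrArg Subtype.val hrs))
  let i₀ : Fin k := ⟨0, by omega⟩
  by_cases hfull : R i₀ = ⊤
  · -- the diagonal case: the action on the elements supported on one factor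
    have hfull' : ∀ i, R i = ⊤ := fun i => Subgroup.eq_top_of_le_card _ (by
      have := hRcard i₀ i
      rwa [hfull, Subgroup.card_top] at this)
    have htriv : ∀ i t, Pi.mulSingle i t ∈ K → t = 1 := by
      intro i t htK
      by_contra htne
      let S : Subgroup T := K.comap (MonoidHom.mulSingle (fun _ => T) i)
      have hS : S.Normal := by
        refine ⟨fun r hr s => ?_⟩
        obtain ⟨x, hx, hxs⟩ : s ∈ R i := hfull' i ▸ Subgroup.mem_top s
        show Pi.mulSingle i (s * r * s⁻¹) ∈ K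
        have he : Pi.mulSingle i (s * r * s⁻¹) = x * Pi.mulSingle i r * x⁻¹ := by
          funext l
          by_cases hl : l = i
          · subst hl; simp [← hxs]
          · simp [hl]
        rw [he]
        exact K.mul_mem (K.mul_mem hx hr) (K.inv_mem hx)
      rcases hS.eq_bot_or_eq_top with hb | hb
      · exact htne (Subgroup.mem_bot.1 (hb ▸ (show t ∈ S from htK)))
      have hall : ∀ j s, Pi.mulSingle j s ∈ K := by
        intro j s
        obtain ⟨h, hh, rfl⟩ := htrans i j
        obtain ⟨r, rfl⟩ := (hτ h i).1.2 s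
        rw [← hsingle]
        exact hKinv h hh _ (hb ▸ Subgroup.mem_top r : r ∈ S)
      apply hN
      refine (Subgroup.eq_bot_iff_forall _).2 fun u hu => FaithfulSMul.eq_of_smul_eq_smul (α := Ω) fun y => ?_
      rw [one_smul]
      obtain ⟨x, rfl⟩ := exists_emb e hu
      obtain ⟨z, rfl⟩ := exists_smul_eq (Fin k → T) a y
      have hmem : ∀ w : Fin k → T, w • a = a := fun w =>
        mem_stabilizer_iff.1 (Subgroup.pi_mem_of_mulSingle_mem (H := K) w fun j => hall j (w j))
      rw [hmem z]
      exact hmem x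
    have hsq := Pi.card_sq_le hT Finset.univ K (fun x _ i hi => absurd (Finset.mem_univ i) hi)
      (fun i _ t => by
        obtain ⟨x, hx, hxt⟩ : t ∈ R i := hfull' i ▸ Subgroup.mem_top t
        exact ⟨x, hx, hxt⟩) htriv
    rw [Finset.card_univ, Fintype.card_fin] at hsq
    have hn2 : Nat.card T ^ k ≤ Nat.card Ω ^ 2 := by
      have h1 : Nat.card T ^ k * Nat.card T ^ k ≤ Nat.card Ω ^ 2 * Nat.card T ^ k := by
        calc Nat.card T ^ k * Nat.card T ^ k = Nat.card Ω ^ 2 * Nat.card K ^ 2 := by
              rw [← hcardK]; ring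
          _ ≤ _ := Nat.mul_le_mul_left _ hsq
      exact Nat.le_of_mul_le_mul_right h1 (Nat.pow_pos Nat.card_pos)
    let Y := {x : Fin k → T // ∃ i t, t ≠ 1 ∧ x = Pi.mulSingle i t}
    let act : MulAction G Y :=
      { smul := fun g x => ⟨rho e g x.1, by
          obtain ⟨i, t, ht, hx⟩ := x.2
          exact ⟨π g i, τ g i t, fun h => ht ((hτ g i).1.1 (h.trans (hτ g i).2.symm)),
            by rw [hx, hsingle]⟩⟩
        one_smul := fun x => Subtype.ext (by show rho e 1 x.1 = x.1; rw [map_one]; rfl)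
        mul_smul := fun g h x => Subtype.ext (by
          show rho e (g * h) x.1 = rho e g (rho e h x.1); rw [map_mul]; rfl) }
    refine ⟨Y, act, inferInstance, ⟨⟨_, i₀, t₀, ht₀, rfl⟩⟩, ⟨fun {g g'} hgg => ?_⟩, ?_⟩
    · rw [← inv_mul_eq_one]
      refine hrho _ fun x => ?_
      refine Subgroup.pi_mem_of_mulSingle_mem
        (H := (rho e (g⁻¹ * g')).toMonoidHom.eqLocus (MonoidHom.id (Fin k → T))) x fun i => ?_
      generalize x i = t
      show rho e (g⁻¹ * g') (Pi.mulSingle i t) = Pi.mulSingle i t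
      by_cases ht : t = 1
      · rw [ht, Pi.mulSingle_one, map_one]
      · have h1 : rho e g (Pi.mulSingle i t) = rho e g' (Pi.mulSingle i t) :=
          congrArg Subtype.val (hgg ⟨_, i, t, ht, rfl⟩)
        rw [map_mul, MulAut.mul_apply, ← h1, map_inv, MulAut.inv_apply_self]
    · have hY : Nat.card Y ≤ k * Nat.card T := by
        conv_rhs => rw [← Nat.card_fin k, ← Nat.card_prod]
        refine Nat.card_le_card_of_injective (fun x => (x.2.choose, x.1 x.2.choose)) fun x y hxy => ?_
        obtain ⟨_, _, hx⟩ := x.2.choose_spec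
        obtain ⟨_, _, hy⟩ := y.2.choose_spec
        simp only [Prod.mk.injEq] at hxy
        refine Subtype.ext ?_
        funext l
        by_cases hl : l = x.2.choose
        · rw [hl, hxy.2, hxy.1]
        · rw [hx, hy, Pi.mulSingle_eq_of_ne hl, Pi.mulSingle_eq_of_ne (hxy.1 ▸ hl)]
      refine lt_of_le_of_lt hY ((Nat.pow_lt_pow_iff_left two_ne_zero).1 ?_)
      exact lt_of_lt_of_le (mul_sq_lt_pow (ten_le_card hT) hk) hn2
  · -- the product case: the action on the conjugates of a projection
    have hR1 : R i₀ ≠ ⊥ := by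
      intro hb
      apply hKne
      refine (Subgroup.eq_bot_iff_forall _).2 fun x hx => funext fun j => ?_
      have h1 : Nat.card (R j) ≤ 1 := by
        have := hRcard j i₀
        rwa [hb, Subgroup.card_bot] at this
      exact Subgroup.mem_bot.1 ((R j).eq_bot_of_card_le h1 ▸ (⟨x, hx, rfl⟩ : x j ∈ R j))
    let P : (Fin k → T) → Prop := fun x => ∃ r ∈ R i₀, x = Pi.mulSingle i₀ r
    let H : Subgroup G :=
      { carrier := {g | ∀ x, P (rho e g x) ↔ P x}
        one_mem' := fun x => by simp
        mul_mem' := fun {g h} hg hh x => by rw [map_mul, MulAut.mul_apply, hg, hh]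
        inv_mem' := fun {g} hg x => by
          rw [← hg (rho e g⁻¹ x), map_inv, MulAut.apply_inv_self] }
    have hmemH : ∀ g, (∀ x, P x → P (rho e g x)) → (∀ x, P x → P (rho e g⁻¹ x)) → g ∈ H := by
      intro g h1 h2 x
      refine ⟨fun h => ?_, h1 x⟩
      have h' := h2 _ h
      rwa [map_inv, MulAut.inv_apply_self] at h'
    have hHstab : ∀ h ∈ stabilizer G a, π h i₀ = i₀ → h ∈ H := by
      have h1 : ∀ h ∈ stabilizer G a, π h i₀ = i₀ → ∀ x, P x → P (rho e h x) := by
        rintro h hh hi _ ⟨r, hr, rfl⟩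
        refine ⟨τ h i₀ r, ?_, by rw [hsingle, hi]⟩
        have h' := hRτ h hh i₀ r hr
        rwa [hi] at h'
      intro h hh hi
      refine hmemH h (h1 h hh hi) (h1 h⁻¹ ((stabilizer G a).inv_mem hh) ?_)
      conv_lhs => rw [← hi, ← hπmul, inv_mul_cancel, hπone]
    have hHemb : ∀ z : Fin k → T, z i₀ ∈ R i₀ → emb e z ∈ H := by
      have h1 : ∀ z : Fin k → T, z i₀ ∈ R i₀ → ∀ x, P x → P (rho e (emb e z) x) := by
        rintro z hz _ ⟨r, hr, rfl⟩
        refine ⟨z i₀ * r * (z i₀)⁻¹, (R i₀).mul_mem ((R i₀).mul_mem hz hr) ((R i₀).inv_mem hz), ?_⟩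
        rw [rho_emb]
        funext l
        by_cases hl : l = i₀
        · subst hl; simp
        · simp [hl]
      intro z hz
      refine hmemH _ (h1 z hz) ?_
      rw [← map_inv]
      exact h1 z⁻¹ ((R i₀).inv_mem hz)
    choose hj hjmem hjπ using htrans i₀
    have hsurj : Function.Surjective fun p : Fin k × (T ⧸ R i₀) =>
        (QuotientGroup.mk (hj p.1 * emb e (Pi.mulSingle i₀ p.2.out)) : G ⧸ H) := by
      intro q
      induction q using QuotientGroup.induction_on with | H g => ?_
      obtain ⟨u, hu, h, hh, rfl⟩ := exists_decomp N a g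
      obtain ⟨z, rfl⟩ := exists_emb e hu
      set j := π h i₀ with hjdef
      set z' := rho e (hj j)⁻¹ z
      refine ⟨(j, QuotientGroup.mk (z' i₀)), QuotientGroup.eq.2 ?_⟩
      set s := (QuotientGroup.mk (z' i₀) : T ⧸ R i₀).out
      have hs : s⁻¹ * z' i₀ ∈ R i₀ := QuotientGroup.eq.1 (QuotientGroup.out_eq' _)
      have he : (hj j * emb e (Pi.mulSingle i₀ s))⁻¹ * (emb e z * h) =
          emb e ((Pi.mulSingle i₀ s)⁻¹ * z') * ((hj j)⁻¹ * h) := by
        rw [map_mul, map_inv, emb_rho]; group
      rw [he]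
      refine H.mul_mem (hHemb _ (by simpa using hs)) (hHstab _ ?_ ?_)
      · exact (stabilizer G a).mul_mem ((stabilizer G a).inv_mem (hjmem j)) hh
      · rw [hπmul, ← hjdef, show π (hj j)⁻¹ j = π (hj j)⁻¹ (π (hj j) i₀) by rw [hjπ j], ← hπmul,
          inv_mul_cancel, hπone]
    refine ⟨G ⧸ H, inferInstance, inferInstance, inferInstance, ?_, ?_⟩
    · have hcore : H.normalCore = ⊥ := by
        rcases hmin (H.normalCore ⊓ N) inferInstance inf_le_right with hb | hb
        · refine (Subgroup.eq_bot_iff_forall _).2 fun c hc => hcent c fun u hu => ?_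
          exact Subgroup.commute_of_normal_of_disjoint _ _ inferInstance inferInstance
            (disjoint_iff.2 hb) c u hc hu
        · exfalso
          have hle : ∀ z, emb e z ∈ H := fun z =>
            H.normalCore_le ((inf_eq_right.1 hb) (emb_mem e z))
          have hRn : (R i₀).Normal := by
            refine ⟨fun r hr s => ?_⟩
            obtain ⟨r', hr', h'⟩ := (hle (Pi.mulSingle i₀ s) (Pi.mulSingle i₀ r)).2 ⟨r, hr, rfl⟩
            rw [rho_emb] at h'
            have := congrFun h' i₀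
            simp at this
            rwa [this]
          exact hRn.eq_bot_or_eq_top.elim hR1 hfull
      refine ⟨fun {g g'} hgg => ?_⟩
      rw [← inv_mul_eq_one, ← Subgroup.mem_bot, ← hcore, Subgroup.normalCore_eq_ker,
        MonoidHom.mem_ker]
      ext q
      simp [mul_smul, ← hgg q]
    · refine lt_of_le_of_lt (Nat.card_le_card_of_surjective _ hsurj) ?_
      rw [Nat.card_prod, Nat.card_fin, ← Subgroup.index]
      have hm2 : 2 ≤ (R i₀).index := by
        have h1 : (R i₀).index ≠ 0 := Subgroup.index_ne_zero_of_finite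
        have h2 : (R i₀).index ≠ 1 := fun h => hfull (Subgroup.index_eq_one.1 h)
        omega
      refine lt_of_lt_of_le (mul_lt_pow hm2 hk) ?_
      have hKle : Nat.card K ≤ Nat.card (R i₀) ^ k := by
        calc Nat.card K ≤ Nat.card (∀ j, R j) :=
              Nat.card_le_card_of_injective (fun x j => ⟨x.1 j, x.1, x.2, rfl⟩) fun x y hxy =>
                Subtype.ext (funext fun j => congrArg Subtype.val (congrFun hxy j))
          _ = ∏ j, Nat.card (R j) := Nat.card_pi
          _ ≤ ∏ _j : Fin k, Nat.card (R i₀) := Finset.prod_le_prod' fun j _ => hRcard j i₀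
          _ = _ := by simp
      have h1 : (R i₀).index ^ k * Nat.card (R i₀) ^ k ≤ Nat.card Ω * Nat.card (R i₀) ^ k := by
        rw [← mul_pow, mul_comm, Subgroup.card_mul_index, ← hcardK, mul_comm]
        exact Nat.mul_le_mul_left _ hKle
      exact Nat.le_of_mul_le_mul_right h1 (Nat.pow_pos Nat.card_pos)

end Cfsg.Agent.CompLength
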