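import Cfsg.Agent.Lib.CompLength.Basic

/-! The bound on the composition length: reductions to primitive groups. -/

set_option autoImplicit false

namespace Cfsg.Agent.CompLength

open MulAction
open scoped Pointwise

/-- The bound for all faithful actions of smaller degree. -/
def BoundBelow (n : ℕ) : Prop :=
  ∀ (G : Type) [Group G] [Finite G] (Ω : Type) [Finite Ω] [MulAction G Ω] [FaithfulSMul G Ω],
    Nat.card Ω < n → ∀ l, Ser (⊤ : Subgroup G) l →
      3 * l + 4 * Nat.card (Quotient (orbitRel G Ω)) ≤ 4 * Nat.card Ω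

theorem card_range_le {G Ω β : Type*} [Group G] [MulAction G Ω] [Finite Ω] (f : Ω → β)
    (hf : ∀ (g : G) (x : Ω), f (g • x) = f x) :
    Nat.card (Set.range f) ≤ Nat.card (Quotient (orbitRel G Ω)) := by
  refine Nat.card_le_card_of_surjective
    (Quotient.lift (fun x => (⟨f x, x, rfl⟩ : Set.range f)) fun x y h => ?_) fun z => ?_
  · obtain ⟨g, rfl⟩ := h
    exact Subtype.ext (hf g y)
  · obtain ⟨_, x, rfl⟩ := z
    exact ⟨Quotient.mk _ x, rfl⟩

theorem one_le_orbits {G Ω : Type*} [Group G] [MulAction G Ω] [Finite Ω] [Nonempty Ω] :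
    1 ≤ Nat.card (Quotient (orbitRel G Ω)) := by
  have : Nonempty (Quotient (orbitRel G Ω)) := ⟨Quotient.mk _ (Classical.arbitrary Ω)⟩
  exact Nat.card_pos

/-- The bound for the group induced on a smaller set, and the rest is in the kernel. -/
theorem split_perm {n : ℕ} (IH : BoundBelow n) {G : Type} [Group G] [Finite G] {Y : Type} [Finite Y]
    [MulAction G Y] [Nonempty Y] (hY : Nat.card Y < n) {l : ℕ} (hl : Ser (⊤ : Subgroup G) l) :
    ∃ a b, Ser (⊤ : Subgroup (toPermHom G Y).ker) a ∧ l ≤ a + b ∧ 3 * b + 4 ≤ 4 * Nat.card Y := by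
  obtain ⟨a, b, ha, hb, hab⟩ := hl.split_top (toPermHom G Y).rangeRestrict
    (toPermHom G Y).rangeRestrict_surjective
  refine ⟨a, b, ha.map_top (MulEquiv.subgroupCongr (toPermHom G Y).ker_rangeRestrict), hab, ?_⟩
  have h1 := IH (toPermHom G Y).range Y hY b hb
  have h2 := one_le_orbits (G := (toPermHom G Y).range) (Ω := Y)
  omega

theorem intransitive {n : ℕ} (IH : BoundBelow n) {G : Type} [Group G] [Finite G] {Ω : Type}
    [Finite Ω] [MulAction G Ω] [FaithfulSMul G Ω] (hn : Nat.card Ω = n)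
    (h2 : 2 ≤ Nat.card (Quotient (orbitRel G Ω))) {l : ℕ} (hl : Ser (⊤ : Subgroup G) l) :
    3 * l + 4 * Nat.card (Quotient (orbitRel G Ω)) ≤ 4 * n := by
  classical
  obtain ⟨q⟩ : Nonempty (Quotient (orbitRel G Ω)) := (Nat.card_pos_iff.1 (by omega)).1
  induction q using Quotient.inductionOn with
  | h x =>
  let C : SubMulAction G Ω :=
    { carrier := (orbit G x)ᶜ
      smul_mem' := fun g y hy hgy => hy (by
        rw [← orbit_eq_iff] at hgy ⊢
        rwa [orbit_smul] at hgy) }
  have hsum : Nat.card (orbit G x) + Nat.card C = n := by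
    show Nat.card (orbit G x) + Nat.card ((orbit G x)ᶜ : Set Ω) = n
    rw [← hn, Nat.card_coe_set_eq, Nat.card_coe_set_eq]
    exact Set.ncard_add_ncard_compl (orbit G x)
  let f : C → Quotient (orbitRel G Ω) := fun y => Quotient.mk _ (y : Ω)
  have hrange : Nat.card (Quotient (orbitRel G Ω)) ≤ Nat.card (Set.range f) + 1 := by
    have h1 : (Set.univ : Set (Quotient (orbitRel G Ω))) ⊆ insert (Quotient.mk _ x) (Set.range f) := by
      rintro q -
      induction q using Quotient.inductionOn with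
      | h y =>
        by_cases hy : y ∈ orbit G x
        · exact Or.inl (Quotient.sound hy)
        · exact Or.inr ⟨⟨y, hy⟩, rfl⟩
    rw [← Nat.card_univ, Nat.card_coe_set_eq, Nat.card_coe_set_eq]
    exact (Set.ncard_le_ncard h1).trans (Set.ncard_insert_le _ _)
  obtain ⟨⟨y0⟩⟩ : Nonempty (Nonempty C) := by
    refine ⟨?_⟩
    by_contra hC
    have : IsEmpty C := not_nonempty_iff.1 hC
    have : Set.range f = ∅ := Set.range_eq_empty f
    rw [this] at hrange
    simp at hrange
    omega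
  have : Nonempty C := ⟨y0⟩
  have : Nonempty (orbit G x) := ⟨⟨x, mem_orbit_self x⟩⟩
  have hCpos : 0 < Nat.card C := Nat.card_pos
  have hOpos : 0 < Nat.card (orbit G x) := Nat.card_pos
  obtain ⟨a, b, ha, hab, hb⟩ := split_perm IH (G := G) (Y := orbit G x) (by omega) hl
  set K := (toPermHom G (orbit G x)).ker
  have : FaithfulSMul K C := by
    refine ⟨fun {g h} hgh => Subtype.ext (FaithfulSMul.eq_of_smul_eq_smul (α := Ω) fun y => ?_)⟩
    by_cases hy : y ∈ orbit G x
    · have hg := congrArg (fun e : Equiv.Perm (orbit G x) => (e ⟨y, hy⟩ : Ω)) g.2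
      have hh := congrArg (fun e : Equiv.Perm (orbit G x) => (e ⟨y, hy⟩ : Ω)) h.2
      simp only [toPermHom_apply, toPerm_apply, Equiv.Perm.one_apply] at hg hh
      exact hg.trans hh.symm
    · exact congrArg Subtype.val (hgh ⟨y, hy⟩)
  have hK := IH K C (by omega) a ha
  have hf := card_range_le (G := K) f fun g y => Quotient.sound ⟨(g : G), rfl⟩
  omega

theorem imprimitive {n : ℕ} (IH : BoundBelow n) {G : Type} [Group G] [Finite G] {Ω : Type}
    [Finite Ω] [MulAction G Ω] [FaithfulSMul G Ω] (hn : Nat.card Ω = n) [IsPretransitive G Ω]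
    (hp : ¬ IsPreprimitive G Ω) {l : ℕ} (hl : Ser (⊤ : Subgroup G) l) :
    3 * l + 4 ≤ 4 * n := by
  classical
  obtain ⟨B, hB, hBt⟩ : ∃ B : Set Ω, IsBlock G B ∧ ¬ IsTrivialBlock B := by
    by_contra h
    push Not at h
    exact hp ⟨fun {B} hB => h B hB⟩
  rw [IsTrivialBlock, not_or, Set.not_subsingleton_iff] at hBt
  obtain ⟨⟨x, hx, x', hx', hxx⟩, huniv⟩ := hBt
  have hne : B.Nonempty := ⟨x, hx⟩
  have hprod := hB.ncard_block_mul_ncard_orbit_eq hne
  let Y := orbit G B
  have hYn : Nat.card Y * B.ncard = n := by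
    rw [← hn, ← hprod, Nat.card_coe_set_eq, mul_comm]
  have hB2 : 2 ≤ B.ncard := (Set.one_lt_ncard (Set.toFinite B)).2 ⟨x, hx, x', hx', hxx⟩
  have hY2 : 2 ≤ Nat.card Y := by
    by_contra h
    apply huniv
    have h1 : Nat.card Y ≤ 1 := by omega
    have h3 : n ≤ B.ncard := by rw [← hYn]; exact (Nat.mul_le_mul_right _ h1).trans (one_mul _).le
    exact Set.eq_of_subset_of_ncard_le (Set.subset_univ B) (by rwa [Set.ncard_univ, hn])
  have : Nonempty Y := ⟨⟨B, mem_orbit_self B⟩⟩
  obtain ⟨a, b, ha, hab, hb⟩ := split_perm IH (G := G) (Y := Y) (by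
    rw [← hYn]; exact lt_mul_of_one_lt_right Nat.card_pos hB2) hl
  set K := (toPermHom G Y).ker
  have hg : ∀ y : Ω, ∃ g : G, g • x = y := exists_smul_eq G x
  choose g hg using hg
  let f : Ω → Y := fun y => ⟨g y • B, mem_orbit B (g y)⟩
  have hf : ∀ (k : K) (y : Ω), f (k • y) = f y := by
    intro k y
    apply Subtype.ext
    show g ((k : G) • y) • B = g y • B
    have hk := congrArg (fun e : Equiv.Perm Y => (e (f y) : Set Ω)) k.2
    simp only [toPermHom_apply, toPerm_apply, Equiv.Perm.one_apply] at hk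
    change (k : G) • (g y • B) = g y • B at hk
    conv_rhs => rw [← hk, smul_smul]
    refine (hB.smul_eq_smul_of_nonempty (g₁ := g ((k : G) • y)) ⟨(k : G) • y, ?_, ?_⟩)
    · exact ⟨x, hx, hg _⟩
    · exact ⟨x, hx, by simp only [mul_smul, hg]⟩
  have hsurj : Set.range f = Set.univ := by
    refine Set.eq_univ_of_forall ?_
    rintro ⟨_, h, rfl⟩
    refine ⟨h • x, Subtype.ext ?_⟩
    exact hB.smul_eq_smul_of_nonempty (g₁ := g (h • x)) ⟨h • x, ⟨x, hx, hg _⟩, ⟨x, hx, rfl⟩⟩
  have h3 := card_range_le (G := K) f hf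
  rw [hsurj, Nat.card_univ] at h3
  have : FaithfulSMul K Ω := ⟨fun {a b} h => Subtype.ext (FaithfulSMul.eq_of_smul_eq_smul (α := Ω) h)⟩
  have hK := intransitive IH (G := K) hn (le_trans hY2 h3) ha
  omega

end Cfsg.Agent.CompLength
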